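import Cfsg.Agent.H876.OZU.Main
import Cfsg.Agent.H279.OZ.U3Row
import Cfsg.Agent.H933.OZ.U42
import Cfsg.Agent.H933.OZ.U43
import Cfsg.Agent.H933.OZ.U62

/-!
# S4842: the family `IsPSU` (helper876; `PSU_3`: helper279; `U_4(2)`, `U_4(3)`, `U_6(2)`: helper933)
-/

set_option autoImplicit false

namespace Cfsg.Agent.H876.OZU

open Cfsg Cfsg.Agent.H730.OZ

universe u

/-- **The family `IsPSU`.** -/
theorem row_isPSU {S : Type u} [Group S] [Finite S] (hs : IsSimpleGroup S) (h : Cfsg.IsPSU S) : Row S := by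
  obtain ⟨F, _, _, n, q, hF, hn, hex, ⟨e⟩⟩ := h
  have hq : 2 ≤ q := by
    by_contra h2
    have h3 : q ^ 2 ≤ 1 := by
      have h4 : q ≤ 1 := by omega
      calc q ^ 2 ≤ 1 ^ 2 := Nat.pow_le_pow_left h4 2
        _ = 1 := one_pow 2
    have h5 : 1 < Fintype.card F := Fintype.one_lt_card
    omega
  by_cases hn3 : n = 3
  · subst hn3
    exact Cfsg.Agent.H279.OZ.row_psu3 hF (by
      by_contra h3
      exact hex ⟨rfl, by omega⟩) e
  by_cases h42 : n = 4 ∧ q = 2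
  · obtain ⟨rfl, rfl⟩ := h42
    exact Cfsg.Agent.H933.OZ.U42.row_u42 hF e
  by_cases h43 : n = 4 ∧ q = 3
  · obtain ⟨rfl, rfl⟩ := h43
    exact Cfsg.Agent.H933.OZ.U43.row_u43 hF e
  by_cases h62 : n = 6 ∧ q = 2
  · obtain ⟨rfl, rfl⟩ := h62
    exact Cfsg.Agent.H933.OZ.U62.row_u62 hF e
  exact row_psu hs hF (by omega) ⟨fun h1 => by omega, h62⟩ e

end Cfsg.Agent.H876.OZU
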