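import Cfsg.Agent.H876.OZU.Row
import Cfsg.Agent.H279.OZ.Kaw
import Cfsg.Agent.Nodes.RGDClass

/-!
# S4842: the row `PSU_n(q)`, `n ≥ 4`, without hypotheses (helper876)
-/

set_option autoImplicit false

namespace Cfsg.Agent.H876.OZU

open Cfsg Cfsg.Agent.H730.OZ Cfsg.Agent.ClassicalGeometry.GUBasic

universe u

/-- **`PSU_n(q)`**, `n ≥ 4`, except `U_4(2)`, `U_4(3)`, `U_6(2)` -/
theorem row_psu {S : Type u} [Group S] [Finite S] (hs : IsSimpleGroup S) {F : Type} [Field F] [Fintype F] {n q : ℕ}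
    (hF : Fintype.card F = q ^ 2) (hn : 4 ≤ n) (hex : ¬ (n = 4 ∧ q ≤ 3) ∧ ¬ (n = 6 ∧ q = 2))
    (e : S ≃* PSU n F q) : Row S := by
  obtain ⟨p, hp⟩ := CharP.exists F
  have hpp : Fact p.Prime := ⟨CharP.char_is_prime F p⟩
  have hfin : Finite (PSU n F q) := Finite.of_equiv S e.toEquiv
  have hsi : IsSimpleGroup (PSU n F q) := by
    have hnt : Nontrivial (PSU n F q) := e.symm.toEquiv.nontrivial
    exact IsSimpleGroup.isSimpleGroup_of_surjective e.toMonoidHom e.surjective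
  have hR : Nodes.RGDChev.HasRGD p (PSU n F q) :=
    Nodes.RGDClass.hasRGD_of_PSU ⟨F, inferInstance, inferInstance, hp, n, q, hF, by omega, by omega, ⟨MulEquiv.refl _⟩⟩
  exact Row.congr e (Row.of_none fun χ hχ => none_psu hF hn hex hsi (H279.OZ.kaw_of_hasRGD hpp.out hR) χ hχ)

end Cfsg.Agent.H876.OZU
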