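import Cfsg.Agent.H448.Van.Arith
import Cfsg.Agent.H876.OZU.IsoU
import Cfsg.Agent.S0280

/-!
# Arithmetic for `PSU_n(q)` (helper876, S4842)
-/

set_option autoImplicit false
set_option linter.style.haveILetI false
set_option linter.unusedSectionVars false

namespace Cfsg.Agent.H876.OZU

open Cfsg.Agent.H448.Van Cfsg.Agent.H730.OZ

/-- the order of `q` modulo a prime with `orderOf (-q) = d` -/
def nuf (d : ℕ) : ℕ := if Odd d then 2 * d else if d % 4 = 0 then d else d / 2

theorem nuf_odd {d : ℕ} (h : Odd d) : nuf d = 2 * d := by rw [nuf, if_pos h]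

theorem nuf_four {d : ℕ} (h : d % 4 = 0) : nuf d = d := by
  rw [nuf, if_neg (by rw [Nat.not_odd_iff_even, Nat.even_iff]; omega), if_pos h]

theorem nuf_two {d : ℕ} (h : d % 4 = 2) : nuf d = d / 2 := by
  rw [nuf, if_neg (by rw [Nat.not_odd_iff_even, Nat.even_iff]; omega), if_neg (by omega)]

theorem nuf_pos {d : ℕ} (h : 1 ≤ d) : 1 ≤ nuf d := by
  unfold nuf
  split_ifs with h1 h2 <;> try omega
  rw [Nat.not_odd_iff_even, Nat.even_iff] at h1
  omega

/-- from the order of `x` to the order of `-x` -/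
theorem order_neg {r : ℕ} [hr : Fact r.Prime] (hr2 : 2 < r) {x : ZMod r} {d : ℕ} (hd : 1 ≤ d) (hx : orderOf x = nuf d) :
    orderOf (-x) = d := by
  have h21 : (-1 : ZMod r) ≠ 1 := by
    intro h
    have h1 : ((2 : ℕ) : ZMod r) = 0 := by push_cast; linear_combination -h
    rw [ZMod.natCast_eq_zero_iff] at h1
    have := Nat.le_of_dvd (by norm_num) h1
    omega
  have hback : ∀ e : ℕ, (-x) ^ e = 1 → nuf d ∣ 2 * e := by
    intro e he
    rw [← hx]
    apply orderOf_dvd_of_pow_eq_one
    rw [pow_mul, ← neg_sq, ← pow_mul, mul_comm, pow_mul, he, one_pow]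
  rcases Nat.even_or_odd d with hde | hdo
  · have hde' := Nat.even_iff.1 hde
    rcases (by omega : d % 4 = 0 ∨ d % 4 = 2) with h4 | h4
    · rw [nuf_four h4] at hx hback
      apply Nat.dvd_antisymm
      · apply orderOf_dvd_of_pow_eq_one
        rw [hde.neg_pow, ← hx, pow_orderOf_eq_one]
      · have h1 := hback _ (pow_orderOf_eq_one (-x))
        have h2 : Even (orderOf (-x)) := by
          rw [Nat.even_iff]
          obtain ⟨c, hc⟩ := h1
          obtain ⟨t, ht⟩ : 4 ∣ d := Nat.dvd_of_mod_eq_zero h4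
          have h5 : orderOf (-x) = 2 * (t * c) := by
            rw [ht] at hc
            have : 4 * t * c = 2 * (2 * (t * c)) := by ring
            omega
          omega
        have h3 := pow_orderOf_eq_one (-x)
        rw [h2.neg_pow] at h3
        rw [← hx]
        exact orderOf_dvd_of_pow_eq_one h3
    · rw [nuf_two h4] at hx hback
      obtain ⟨c, hc⟩ : ∃ c, d = 2 * c := ⟨d / 2, by omega⟩
      have hc2 : d / 2 = c := by omega
      rw [hc2] at hx hback
      have hco : Odd c := by rw [Nat.odd_iff]; omega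
      apply Nat.dvd_antisymm
      · apply orderOf_dvd_of_pow_eq_one
        rw [hde.neg_pow, hc, mul_comm, pow_mul, ← hx, pow_orderOf_eq_one, one_pow]
      · have h1 := hback _ (pow_orderOf_eq_one (-x))
        have h2 : c ∣ orderOf (-x) := by
          have : Nat.Coprime c 2 := (Nat.coprime_two_right).2 hco
          exact this.dvd_of_dvd_mul_left h1
        obtain ⟨t, ht⟩ := h2
        have h3 := pow_orderOf_eq_one (-x)
        rw [ht, pow_mul, hco.neg_pow, ← hx, pow_orderOf_eq_one] at h3
        have h4 : Even t := by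
          by_contra h5
          rw [Nat.not_even_iff_odd] at h5
          rw [h5.neg_one_pow] at h3
          exact h21 h3
        obtain ⟨s, hs⟩ := h4
        rw [ht, hc, hs]
        exact ⟨s, by ring⟩
  · rw [nuf_odd hdo] at hx hback
    have hxd : x ^ d = -1 := by
      have h1 : (x ^ d) * (x ^ d) = 1 := by
        rw [← pow_add, ← two_mul, ← hx, pow_orderOf_eq_one]
      rcases mul_self_eq_one_iff.1 h1 with h2 | h2
      · exfalso
        have h3 := orderOf_dvd_of_pow_eq_one h2
        rw [hx] at h3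
        have := Nat.le_of_dvd (by omega) h3
        omega
      · exact h2
    apply Nat.dvd_antisymm
    · apply orderOf_dvd_of_pow_eq_one
      rw [hdo.neg_pow, hxd, neg_neg]
    · exact Nat.dvd_of_mul_dvd_mul_left (by norm_num) (hback _ (pow_orderOf_eq_one (-x)))

/-- the primes -/
theorem exists_prime {p a d : ℕ} (hp : p.Prime) (ha : 1 ≤ a) (hd : 3 ≤ d) (h6 : ¬ (p = 2 ∧ a * nuf d = 6)) :
    ∃ r : ℕ, r.Prime ∧ orderOf (p : ZMod r) = a * nuf d ∧ orderOf (-((p ^ a : ℕ) : ZMod r)) = d ∧ 2 < r := by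
  have hnu : 3 ≤ nuf d := by
    unfold nuf
    split_ifs with h1 h2
    · omega
    · omega
    · rw [Nat.not_odd_iff_even, Nat.even_iff] at h1
      omega
  have hge : 3 ≤ a * nuf d := by nlinarith
  obtain ⟨r, hr, hord⟩ := Cfsg.Agent.Lib.Zsigmondy.exists_prime_orderOf (a := p) (n := a * nuf d) hp.two_le (by omega)
    (by omega) h6
  haveI : Fact r.Prime := ⟨hr⟩
  have hp0 : (p : ZMod r) ≠ 0 := by
    intro h
    have h1 : ((0 : ZMod r)) ^ (a * nuf d) = 1 := by rw [← h, ← hord]; exact pow_orderOf_eq_one _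
    rw [zero_pow (by omega)] at h1
    exact zero_ne_one h1
  have hr2 : 2 < r := by
    have h2 : orderOf (p : ZMod r) ∣ r - 1 := orderOf_dvd_of_pow_eq_one (ZMod.pow_card_sub_one_eq_one hp0)
    rw [hord] at h2
    have h3 := hr.two_le
    have := Nat.le_of_dvd (by omega) h2
    omega
  refine ⟨r, hr, hord, order_neg hr2 (by omega) ?_, hr2⟩
  push_cast
  rw [orderOf_pow' _ (by omega), hord, Nat.gcd_eq_right (dvd_mul_right _ _), Nat.mul_div_cancel_left _ (by omega)]

/-- the middle values: `o` odd, `f` even, coprime -/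
theorem mid_psu {a m o f Df : ℕ} {e : ℤ} (ha : 0 < a) (ho : Odd o) (hf : Even f) (hf0 : 0 < f) (hco : Nat.Coprime o f)
    (hm : 0 < m) (hm2 : m < a * (o * f)) (hD : Df = a * nuf f ∨ (a = 2 ∧ f = 6 ∧ Df = 3))
    (h1 : a * (2 * o) ∣ 2 * m) (h2 : Df ∣ 2 * m) (h3 : e = -1 → ¬ a * (2 * o) ∣ m ∧ ¬ Df ∣ m)
    (h4 : e = 1 → a * (2 * o) ∣ m ∧ Df ∣ m) (he : e = 1 ∨ e = -1) : False := by
  rcases he with rfl | rfl
  · obtain ⟨h5, h6⟩ := h4 rfl
    -- `a o f ∣ m`
    have key : a * (o * f) ∣ m := by
      rcases hD with rfl | ⟨rfl, rfl, rfl⟩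
      · obtain ⟨c, hc⟩ := (Dvd.intro _ rfl : a ∣ a * (2 * o)).trans h5
        rw [hc] at h5 h6 ⊢
        have h7 := Nat.dvd_of_mul_dvd_mul_left ha h5
        have h8 := Nat.dvd_of_mul_dvd_mul_left ha h6
        apply Nat.mul_dvd_mul_left
        have h9 : o ∣ c := (Dvd.intro_left 2 rfl).trans h7
        have h10 : 2 ∣ c := (Dvd.intro o rfl).trans h7
        have hfe := Nat.even_iff.1 hf
        rcases (by omega : f % 4 = 0 ∨ f % 4 = 2) with h11 | h11
        · rw [nuf_four h11] at h8
          exact hco.mul_dvd_of_dvd_of_dvd h9 h8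
        · rw [nuf_two h11] at h8
          have h12 : f ∣ c := by
            obtain ⟨t, ht⟩ : ∃ t, f = 2 * t := ⟨f / 2, by omega⟩
            have ht2 : f / 2 = t := by omega
            rw [ht2] at h8
            rw [ht]
            have : Nat.Coprime 2 t := by
              rw [Nat.coprime_two_left, Nat.odd_iff]; omega
            exact this.mul_dvd_of_dvd_of_dvd h10 h8
          exact hco.mul_dvd_of_dvd_of_dvd h9 h12
      · -- `4 o ∣ m`, `3 ∣ m`
        have h7 : Nat.Coprime o 3 := hco.coprime_dvd_right (by norm_num)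
        have h8 : o ∣ m := (Dvd.intro_left 4 (by ring)).trans h5
        have h9 : 4 ∣ m := (Dvd.intro o (by ring)).trans h5
        have h10 : Nat.Coprime (4 * 3) o := by
          have : Nat.Coprime o 4 := by
            have : Nat.Coprime o 2 := (Nat.coprime_two_right).2 ho
            exact (Nat.Coprime.mul_right this this : Nat.Coprime o (2 * 2))
          exact (this.mul_right h7).symm
        have h11 : 4 * 3 ∣ m := (by norm_num : Nat.Coprime 4 3).mul_dvd_of_dvd_of_dvd h9 h6
        have h12 := h10.mul_dvd_of_dvd_of_dvd h11 h8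
        refine (Dvd.intro 1 ?_ : 2 * (o * 6) ∣ 4 * 3 * o).trans h12
        ring
    have := Nat.le_of_dvd hm key
    omega
  · obtain ⟨h5, h6⟩ := h3 rfl
    rcases hD with rfl | ⟨rfl, rfl, rfl⟩
    · obtain ⟨c, hc⟩ : a * o ∣ m := by
        apply Nat.dvd_of_mul_dvd_mul_left (by norm_num : 0 < 2)
        refine (dvd_of_eq ?_).trans h1
        ring
      -- `c` is odd
      have hcodd : Odd c := by
        by_contra hce
        rw [Nat.not_odd_iff_even] at hce
        obtain ⟨t, ht⟩ := hce
        apply h5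
        exact ⟨t, by rw [hc, ht]; ring⟩
      have hoc : Odd (o * c) := ho.mul hcodd
      have hm3 : m = a * (o * c) := by rw [hc]; ring
      rw [hm3] at h2 h6
      have h7 : nuf f ∣ 2 * (o * c) := by
        apply Nat.dvd_of_mul_dvd_mul_left ha
        refine h2.trans (dvd_of_eq ?_)
        ring
      have h8 : ¬ nuf f ∣ o * c := fun h => h6 (Nat.mul_dvd_mul_left _ h)
      have hfe := Nat.even_iff.1 hf
      rcases (by omega : f % 4 = 0 ∨ f % 4 = 2) with h11 | h11
      · rw [nuf_four h11] at h7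
        have h9 : 4 ∣ 2 * (o * c) := (Nat.dvd_of_mod_eq_zero h11).trans h7
        obtain ⟨k, hk⟩ := hoc
        omega
      · rw [nuf_two h11] at h7 h8
        apply h8
        have : Nat.Coprime (f / 2) 2 := by
          rw [Nat.coprime_two_right, Nat.odd_iff]; omega
        exact this.dvd_of_dvd_mul_left h7
    · apply h6
      exact (by norm_num : Nat.Coprime 3 2).dvd_of_dvd_mul_left h2

end Cfsg.Agent.H876.OZU
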