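import Cfsg.Agent.H876.OZU.Num
import Cfsg.Agent.H730.OZ.Asm

/-!
# S4842: the row `PSU_n(q)`, `n ≥ 4` (helper876)
-/

set_option autoImplicit false
set_option linter.style.haveILetI false
set_option linter.unusedSectionVars false

namespace Cfsg.Agent.H876.OZU

open Cfsg Cfsg.Agent.H448.Van Cfsg.Agent.H730.OZ Cfsg.Agent.H732.VZ Cfsg.Agent.ClassicalGeometry.GUBasic
  Cfsg.Agent.H127.UnitRoots

universe u

theorem prod_range_eq (f : ℕ → ℕ) (n : ℕ) : ((List.range n).map f).prod = ∏ i ∈ Finset.range n, f i := by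
  induction n with
  | zero => simp
  | succ n ih => rw [List.range_succ, List.map_append, List.prod_append, ih, Finset.prod_range_succ]; simp

/-- the consequences of one congruence -/
theorem ords {G : Type u} [Group G] {p r D m : ℕ} {e : ℤ} (hord : orderOf (p : ZMod r) = D) (hr2 : 2 < r)
    (hc : (r : ℤ) ∣ e * (p : ℤ) ^ m - (p : ℤ) ^ 0) (he : e = 1 ∨ e = -1) :
    D ∣ 2 * m ∧ (e = -1 → ¬ D ∣ m) ∧ (e = 1 → D ∣ m) := by
  rcases he with rfl | rfl
  · have h2 := ord_one hord hc
    exact ⟨h2.mul_left 2, fun h => absurd h (by norm_num), fun _ => h2⟩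
  · obtain ⟨h2, h3⟩ := ord_neg hord hc
    exact ⟨h2, fun _ => h3 hr2, fun h => absurd h (by norm_num)⟩

section card

variable {F : Type u} [Field F] [Fintype F] {q n p a : ℕ}

theorem factor_ne (hp : p.Prime) (ha : 0 < a) (i : ℕ) :
    ¬ p ∣ (if Even i then (p ^ a) ^ (i + 1) + 1 else (p ^ a) ^ (i + 1) - 1) := by
  have h1 : p ∣ (p ^ a) ^ (i + 1) := (dvd_pow_self p ha.ne').trans (dvd_pow_self _ (by omega))
  have h2 : 1 ≤ (p ^ a) ^ (i + 1) := Nat.one_le_pow _ _ (pow_pos hp.pos a)
  intro h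
  split_ifs at h
  · have := (Nat.dvd_add_right h1).1 h
    exact hp.one_lt.ne' (Nat.dvd_one.1 this)
  · have := (Nat.dvd_sub_iff_right h2 h1).1 h
    exact hp.one_lt.ne' (Nat.dvd_one.1 this)

theorem card_fact (hF : Fintype.card F = (p ^ a) ^ 2) (hn : 2 ≤ n) (hp : p.Prime) (ha : 0 < a)
    [Finite (PSU n F (p ^ a))] : (Nat.card (PSU n F (p ^ a))).factorization p = a * (n * (n - 1) / 2) := by
  have h1 := S0280.result hF n hn
  refine fact_of (g := Nat.gcd n (p ^ a + 1) * (p ^ a + 1)) (M := ∏ i ∈ Finset.range n,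
    (if Even i then (p ^ a) ^ (i + 1) + 1 else (p ^ a) ^ (i + 1) - 1)) hp ?_ ?_ Nat.card_pos.ne' ?_
  · intro h
    have hp1 : ∀ x, x ∣ p ^ a + 1 → ¬ p ∣ x := by
      intro x hx h2
      have h3 := (Nat.dvd_add_right (dvd_pow_self p ha.ne')).1 (h2.trans hx)
      exact hp.one_lt.ne' (Nat.dvd_one.1 h3)
    rcases hp.dvd_mul.1 h with h2 | h2
    · exact hp1 _ (Nat.gcd_dvd_right _ _) h2
    · exact hp1 _ dvd_rfl h2
  · intro h
    rw [hp.prime.dvd_finsetProd_iff] at h
    obtain ⟨i, -, hi⟩ := h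
    exact factor_ne hp ha i hi
  · rw [mul_assoc, h1, ← pow_mul]

theorem card_not_dvd (hF : Fintype.card F = (p ^ a) ^ 2) (hn : 4 ≤ n) (hp : p.Prime) (ha : 0 < a) :
    ¬ p ^ (a * (n * (n - 1))) - 1 ∣ Nat.card (PSU n F (p ^ a)) := by
  have hx : 12 ≤ n * (n - 1) := by
    have := Nat.mul_le_mul hn (show 3 ≤ n - 1 by omega)
    omega
  have hlt : 2 * n < n * (n - 1) := by
    have : 3 ≤ n - 1 := by omega
    nlinarith
  refine not_dvd_card hp ha (by omega) (N := a * (n * (n - 1) / 2)) (L := (List.range n).map fun i => 2 * (i + 1)) ?_ ?_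
  · have h1 := S0280.result hF n (by omega)
    have h2 : Nat.card (PSU n F (p ^ a)) ∣ (p ^ a) ^ (n * (n - 1) / 2) *
        ∏ i ∈ Finset.range n, (if Even i then (p ^ a) ^ (i + 1) + 1 else (p ^ a) ^ (i + 1) - 1) := by
      rw [← h1]
      exact Dvd.intro_left _ (mul_assoc _ _ _)
    rw [← pow_mul] at h2
    refine h2.trans (Nat.mul_dvd_mul_left _ ?_)
    rw [List.map_map, prod_range_eq]
    apply Finset.prod_dvd_prod_of_dvd
    intro i _
    have h3 : (p ^ a) ^ (2 * (i + 1)) - 1 = ((p ^ a) ^ (i + 1) + 1) * ((p ^ a) ^ (i + 1) - 1) := by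
      rw [mul_comm 2 (i + 1), pow_mul]
      have := Nat.sq_sub_sq ((p ^ a) ^ (i + 1)) 1
      rwa [one_pow] at this
    change _ ∣ (p ^ a) ^ (2 * (i + 1)) - 1
    rw [h3]
    split_ifs
    · exact dvd_mul_right _ _
    · exact dvd_mul_left _ _
  · intro d hd
    rw [List.mem_map] at hd
    obtain ⟨i, hi, rfl⟩ := hd
    rw [List.mem_range] at hi
    omega

end card

section main

variable {F : Type u} [Field F] [Fintype F] {q n p : ℕ}

/-- **`PSU_n(q)`**, `n ≥ 4`: no irreducible character vanishes on exactly one class -/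
theorem none_psu (hF : Fintype.card F = q ^ 2) (hn : 4 ≤ n) (hex : ¬ (n = 4 ∧ q ≤ 3) ∧ ¬ (n = 6 ∧ q = 2))
    [hp : Fact p.Prime] [CharP F p] (hs : IsSimpleGroup (PSU n F q)) (hK : Kaw p (PSU n F q))
    (χ : PSU n F q → ℂ) (hχ : IsIrrCharacter (PSU n F q) χ) : ¬ OneZero χ := by
  classical
  have hq := two_le hF
  obtain ⟨a, hqa, ha⟩ := exists_eq_pow hF p
  subst hqa
  haveI : Finite (SU n F (p ^ a)) := inferInstance
  haveI : Finite (PSU n F (p ^ a)) := inferInstance
  have hv := card_fact (n := n) hF (by omega) hp.out (by omega : 0 < a)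
  have hx : 12 ≤ n * (n - 1) := by
    have := Nat.mul_le_mul hn (show 3 ≤ n - 1 by omega)
    omega
  have hev : n * (n - 1) / 2 * 2 = n * (n - 1) := Nat.div_mul_cancel (Nat.even_mul_pred_self n).two_dvd
  have h2v : 2 * (a * (n * (n - 1) / 2)) = a * (n * (n - 1)) := by
    rw [← hev]; ring_nf
    rw [Nat.mul_div_cancel _ (by norm_num)]
  refine none_of_cong hs hp.out hv ?_ hK ?_ ?_ hχ
  · have : 6 ≤ n * (n - 1) / 2 := by omega
    exact Nat.mul_ne_zero (by omega) (by omega)
  · rw [h2v]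
    exact card_not_dvd hF hn hp.out (by omega)
  · intro m e he hm hm2 hc
    rw [h2v] at hm2
    -- the odd and the even one
    obtain ⟨o, f, ho, hf, hof, hmul, hco⟩ : ∃ o f, Odd o ∧ Even f ∧
        ((o = n ∧ f + 1 = n) ∨ (f = n ∧ o + 1 = n)) ∧ o * f = n * (n - 1) ∧ Nat.Coprime o f := by
      have hcop : Nat.Coprime n (n - 1) := by
        have := Nat.coprime_self_add_left (m := n - 1) (n := 1)
        have h3 : n - 1 + 1 = n := by omega
        rw [h3] at this
        exact this.2 (Nat.coprime_one_left _)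
      rcases Nat.even_or_odd n with h | h
      · refine ⟨n - 1, n, ?_, h, Or.inr ⟨rfl, by omega⟩, mul_comm _ _, hcop.symm⟩
        rw [Nat.odd_iff]
        have := Nat.even_iff.1 h
        omega
      · refine ⟨n, n - 1, h, ?_, Or.inl ⟨rfl, by omega⟩, rfl, hcop⟩
        rw [Nat.even_iff]
        have := Nat.odd_iff.1 h
        omega
    have hod := Nat.odd_iff.1 ho
    have hfe := Nat.even_iff.1 hf
    have ho3 : 3 ≤ o := by omega
    have hf4 : 4 ≤ f := by omega
    -- the prime of the odd one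
    obtain ⟨r, hr, hr1, hr2, hr3⟩ := exists_prime (p := p) (a := a) (d := o) hp.out ha ho3 (by
      rintro ⟨h2, h6⟩
      rw [nuf_odd ho] at h6
      have h7 : a = 1 := by
        by_contra hne
        have : 2 ≤ a := by omega
        nlinarith
      subst h7 h2
      have : o = 3 := by omega
      apply hex.1
      constructor
      · omega
      · norm_num)
    have hIr : Iso (PSU n F (p ^ a)) p r := iso_psu hF (by omega) hr hr2 (by omega)
      (by rcases hof with ⟨h, -⟩ | ⟨-, h⟩ <;> omega) hex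
    -- the prime of the even one
    obtain ⟨s, Df, hs', hs1, hs2, hs3, hDf⟩ : ∃ s Df : ℕ, s.Prime ∧ orderOf (p : ZMod s) = Df ∧
        orderOf (-((p ^ a : ℕ) : ZMod s)) = f ∧ 2 < s ∧ (Df = a * nuf f ∨ (a = 2 ∧ f = 6 ∧ Df = 3)) := by
      by_cases h6 : p = 2 ∧ a * nuf f = 6
      · obtain ⟨h7, h8⟩ := h6
        have h9 : a = 2 ∧ f = 6 := by
          rcases (by omega : f % 4 = 0 ∨ f % 4 = 2) with h11 | h11
          · rw [nuf_four h11] at h8
            exfalso
            have : a = 1 := by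
              by_contra hne
              have : 2 ≤ a := by omega
              nlinarith
            subst this
            omega
          · rw [nuf_two h11] at h8
            obtain ⟨t, ht⟩ : ∃ t, f = 2 * t := ⟨f / 2, by omega⟩
            have ht2 : f / 2 = t := by omega
            rw [ht2] at h8
            have ht3 : 3 ≤ t := by omega
            have hto : t % 2 = 1 := by omega
            have ha2 : a ≤ 2 := by
              by_contra hne
              have : 3 ≤ a := by omega
              nlinarith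
            interval_cases a
            · omega
            · omega
        obtain ⟨rfl, rfl⟩ := h9
        subst h7
        refine ⟨7, 3, by norm_num, ?_, ?_, by norm_num, Or.inr ⟨rfl, rfl, rfl⟩⟩
        · haveI : Fact (Nat.Prime 3) := ⟨Nat.prime_three⟩
          exact orderOf_eq_prime (by decide) (by decide)
        · have h10 : (-((2 ^ 2 : ℕ) : ZMod 7)) = 3 := by decide
          rw [h10, orderOf_eq_iff (by norm_num)]
          refine ⟨by decide, ?_⟩
          intro k hk hk0
          interval_cases k <;> decide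
      · obtain ⟨s, hs, hs1, hs2, hs3⟩ := exists_prime (p := p) (a := a) (d := f) hp.out ha (by omega) h6
        exact ⟨s, a * nuf f, hs, hs1, hs2, hs3, Or.inl rfl⟩
    have hIs : Iso (PSU n F (p ^ a)) p s := iso_psu hF (by omega) hs' hs2 (by omega)
      (by rcases hof with ⟨-, h⟩ | ⟨h, -⟩ <;> omega) hex
    obtain ⟨h1, h2, h3⟩ := ords (G := PSU n F (p ^ a)) hr1 hr3 (hc r 0 (cong_of_iso hp.out hIr)) he
    obtain ⟨h4, h5, h6⟩ := ords (G := PSU n F (p ^ a)) hs1 hs3 (hc s 0 (cong_of_iso hp.out hIs)) he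
    rw [nuf_odd ho] at h1 h2 h3
    exact mid_psu (by omega) ho hf (by omega) hco hm (by rw [hmul]; exact hm2) hDf h1 h4 (fun h => ⟨h2 h, h5 h⟩)
      (fun h => ⟨h3 h, h6 h⟩) he

end main

end Cfsg.Agent.H876.OZU
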